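import Mathlib

/-!
Totally isotropic subspaces and unipotent isometries in coordinates relative to a hyperbolic pair
of an alternating form.
-/

set_option autoImplicit false

namespace Cfsg.Agent.Lib.SympUni

open Module

variable {F : Type*} [Field F] {V : Type*} [AddCommGroup V] [Module F V]

/-- Totally isotropic subspaces. -/
def TI (B : LinearMap.BilinForm F V) (W : Submodule F V) : Prop := ∀ x ∈ W, ∀ y ∈ W, B x y = 0

/-- Unipotent isometries fixing a subspace pointwise. -/
def UFix (B : LinearMap.BilinForm F V) (W : Submodule F V) : Type _ :=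
  {g : Module.End F V // (∀ x y, B (g x) (g y) = B x y) ∧ IsNilpotent (g - 1) ∧ ∀ w ∈ W, g w = w}

/-- A hyperbolic pair. -/
structure HPair (B : LinearMap.BilinForm F V) where
  e : V
  f : V
  alt : B.IsAlt
  ef : B e f = 1

namespace HPair

variable {B : LinearMap.BilinForm F V} (P : HPair B)

theorem ee : B P.e P.e = 0 := P.alt P.e

theorem ff : B P.f P.f = 0 := P.alt P.f

include P in
theorem skew (x y : V) : B x y = -B y x := (LinearMap.IsAlt.neg P.alt y x).symm

theorem fe : B P.f P.e = -1 := by rw [P.skew, P.ef]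

theorem e_ne : P.e ≠ 0 := fun h => by simpa [h] using P.ef

/-- The orthogonal of the pair. -/
def M : Submodule F V := LinearMap.ker (B P.e) ⊓ LinearMap.ker (B P.f)

theorem e_m (u : P.M) : B P.e u = 0 := u.2.1

theorem f_m (u : P.M) : B P.f u = 0 := u.2.2

theorem m_e (u : P.M) : B (u : V) P.e = 0 := by rw [P.skew, P.e_m, neg_zero]

theorem m_f (u : P.M) : B (u : V) P.f = 0 := by rw [P.skew, P.f_m, neg_zero]

/-- The form on `M`. -/
def BM : LinearMap.BilinForm F P.M := B.restrict P.M

theorem BM_apply (u v : P.M) : P.BM u v = B (u : V) v := rfl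

theorem BM_alt : P.BM.IsAlt := fun u => P.alt (u : V)

/-- The projection onto `M`. -/
def π : V →ₗ[F] P.M :=
  LinearMap.codRestrict P.M
    (LinearMap.id - (B.flip P.f).smulRight P.e - (B P.e).smulRight P.f) (fun y => by
      refine ⟨?_, ?_⟩
      · simp [P.ee, P.ef]
      · have h := P.skew P.f y
        simp [P.ff, P.fe, h])

theorem π_val (y : V) : (P.π y : V) = y - B y P.f • P.e - B P.e y • P.f := rfl

theorem decomp (y : V) : (P.π y : V) + B y P.f • P.e + B P.e y • P.f = y := by
  rw [P.π_val]; abel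

theorem π_m (u : P.M) : P.π u = u := Subtype.ext (by rw [P.π_val, P.m_f, P.e_m]; simp)

theorem π_e : P.π P.e = 0 := Subtype.ext (by rw [P.π_val, P.ef, P.ee]; simp)

theorem π_f : P.π P.f = 0 := Subtype.ext (by rw [P.π_val, P.ef, P.ff]; simp)

theorem π_eq_zero {y : V} (h : P.π y = 0) (he : B P.e y = 0) : y = B y P.f • P.e := by
  have h' := P.decomp y
  rw [h, he, ZeroMemClass.coe_zero, zero_smul, add_zero, zero_add] at h'
  exact h'.symm

theorem form (u v : P.M) (a b a' b' : F) :
    B ((u : V) + a • P.e + b • P.f) ((v : V) + a' • P.e + b' • P.f) =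
      B (u : V) v + a * b' - b * a' := by
  simp only [map_add, map_smul, LinearMap.add_apply, LinearMap.smul_apply, P.ee, P.ff, P.ef, P.fe,
    P.e_m, P.f_m, P.m_e, P.m_f, smul_eq_mul]
  ring

theorem form' (y z : V) :
    B y z = B (P.π y : V) (P.π z) + B y P.f * B P.e z - B P.e y * B z P.f := by
  have h := P.form (P.π y) (P.π z) (B y P.f) (B P.e y) (B z P.f) (B P.e z)
  rwa [P.decomp, P.decomp] at h

theorem BM_nondeg (hB : B.Nondegenerate) : P.BM.Nondegenerate := by
  refine ⟨fun u hu => ?_, fun u hu => ?_⟩ <;> refine Subtype.ext ?_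
  · refine hB.1 _ fun y => ?_
    rw [P.form', P.π_m, P.m_f, P.e_m, zero_mul, zero_mul, add_zero, sub_zero]
    exact hu (P.π y)
  · refine hB.2 _ fun y => ?_
    rw [P.form', P.π_m, P.m_f, P.e_m, mul_zero, mul_zero, add_zero, sub_zero]
    exact hu (P.π y)

/-- `V = M ⊕ ⟨e⟩ ⊕ ⟨f⟩`. -/
def split : V ≃ₗ[F] P.M × F × F where
  toFun y := (P.π y, B y P.f, B P.e y)
  map_add' y z := by simp
  map_smul' c y := by simp
  invFun w := (w.1 : V) + w.2.1 • P.e + w.2.2 • P.f
  left_inv y := P.decomp y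
  right_inv w := by
    obtain ⟨u, a, b⟩ := w
    simp [P.π_m, P.π_e, P.π_f, P.m_f, P.ef, P.ff, P.e_m, P.ee]

theorem finrank_M [FiniteDimensional F V] : finrank F P.M + 2 = finrank F V := by
  rw [P.split.finrank_eq, Module.finrank_prod, Module.finrank_prod, Module.finrank_self]

/-- The subspaces through `e`. -/
def W1 (U : Submodule F P.M) : Submodule F V := U.comap P.π ⊓ LinearMap.ker (B P.e)

theorem mem_W1 {U : Submodule F P.M} {y : V} : y ∈ P.W1 U ↔ P.π y ∈ U ∧ B P.e y = 0 := Iff.rfl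

theorem e_mem_W1 (U : Submodule F P.M) : P.e ∈ P.W1 U :=
  P.mem_W1.mpr ⟨by rw [P.π_e]; exact zero_mem U, P.ee⟩

/-- `W1 U ≅ U × F`. -/
def W1Equiv (U : Submodule F P.M) : P.W1 U ≃ₗ[F] U × F where
  toFun y := (⟨P.π y, y.2.1⟩, B (y : V) P.f)
  map_add' y z := by ext <;> simp
  map_smul' c y := by ext <;> simp
  invFun w := ⟨(w.1.1 : V) + w.2 • P.e, ⟨by
    show P.π _ ∈ U
    simp [P.π_m, P.π_e], by simp [P.e_m, P.ee]⟩⟩
  left_inv y := Subtype.ext (by
    show (P.π (y : V) : V) + B (y : V) P.f • P.e = y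
    conv_rhs => rw [← P.decomp (y : V), show B P.e (y : V) = 0 from y.2.2, zero_smul, add_zero])
  right_inv w := by
    obtain ⟨u, a⟩ := w
    ext <;> simp [P.π_m, P.π_e, P.m_f, P.ef]

/-- The map whose range is a subspace of `e^⊥` without `e`. -/
def g2 (U : Submodule F P.M) (φ : U →ₗ[F] F) : U →ₗ[F] V :=
  P.M.subtype.comp U.subtype + φ.smulRight P.e

theorem g2_apply (U : Submodule F P.M) (φ : U →ₗ[F] F) (u : U) :
    P.g2 U φ u = ((u : P.M) : V) + φ u • P.e := rfl

theorem π_g2 (U : Submodule F P.M) (φ : U →ₗ[F] F) (u : U) : P.π (P.g2 U φ u) = u := by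
  simp [P.g2_apply, P.π_m, P.π_e]

theorem g2_injective (U : Submodule F P.M) (φ : U →ₗ[F] F) : Function.Injective (P.g2 U φ) :=
  fun u v h => Subtype.ext (by rw [← P.π_g2 U φ u, h, P.π_g2])

/-- The map whose range is a subspace outside `e^⊥`. -/
def g3 (U : Submodule F P.M) (x : P.M) (c : F) : U × F →ₗ[F] V :=
  (P.g2 U ((P.BM x).comp U.subtype)).comp (LinearMap.fst F U F) +
    (LinearMap.snd F U F).smulRight ((x : V) + c • P.e + P.f)

theorem g3_apply (U : Submodule F P.M) (x : P.M) (c : F) (w : U × F) :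
    P.g3 U x c w = ((w.1 : P.M) : V) + P.BM x w.1 • P.e + w.2 • ((x : V) + c • P.e + P.f) := rfl

theorem π_g3 (U : Submodule F P.M) (x : P.M) (c : F) (w : U × F) :
    P.π (P.g3 U x c w) = (w.1 : P.M) + w.2 • x := by
  simp [P.g3_apply, P.π_m, P.π_e, P.π_f]

theorem e_g3 (U : Submodule F P.M) (x : P.M) (c : F) (w : U × F) :
    B P.e (P.g3 U x c w) = w.2 := by
  simp [P.g3_apply, P.e_m, P.ee, P.ef]

theorem g3_injective (U : Submodule F P.M) (x : P.M) (c : F) :
    Function.Injective (P.g3 U x c) := by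
  intro v w h
  have h2 : v.2 = w.2 := by rw [← P.e_g3 U x c v, h, P.e_g3]
  have h1 := congrArg P.π h
  rw [P.π_g3, P.π_g3, h2, add_left_inj] at h1
  exact Prod.ext (Subtype.ext h1) h2

/-- The isometry with given data. -/
def iso (h : Module.End F P.M) (x : P.M) (c : F) : Module.End F V :=
  (B.flip P.f).smulRight P.e + (B P.e).smulRight ((x : V) + c • P.e + P.f) +
    (P.M.subtype + (P.BM x).smulRight P.e).comp (h.comp P.π)

theorem iso_apply (h : Module.End F P.M) (x : P.M) (c : F) (y : V) :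
    P.iso h x c y = ((h (P.π y) + B P.e y • x : P.M) : V) +
      (B y P.f + B P.e y * c + P.BM x (h (P.π y))) • P.e + B P.e y • P.f := by
  simp only [iso, LinearMap.add_apply, LinearMap.smulRight_apply, LinearMap.comp_apply,
    Submodule.subtype_apply, LinearMap.BilinForm.flip_apply, Submodule.coe_add, Submodule.coe_smul,
    smul_add, add_smul, mul_smul]
  abel

theorem π_mk (h : Module.End F P.M) (x : P.M) (c : F) (y : V) :
    P.π (P.iso h x c y) = h (P.π y) + B P.e y • x := by
  rw [P.iso_apply]; simp [P.π_m, P.π_e, P.π_f]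

theorem e_iso (h : Module.End F P.M) (x : P.M) (c : F) (y : V) :
    B P.e (P.iso h x c y) = B P.e y := by
  rw [P.iso_apply]; simp [P.e_m, P.ee, P.ef]

theorem iso_e (h : Module.End F P.M) (x : P.M) (c : F) : P.iso h x c P.e = P.e := by
  rw [P.iso_apply, P.π_e, map_zero, P.ee, P.ef]; simp

theorem iso_iso (h : Module.End F P.M) (hh : ∀ u v, P.BM (h u) (h v) = P.BM u v) (x : P.M) (c : F)
    (y z : V) : B (P.iso h x c y) (P.iso h x c z) = B y z := by
  rw [P.iso_apply, P.iso_apply, P.form, P.form' y z, ← P.BM_apply, ← P.BM_apply, ← hh (P.π y) (P.π z)]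
  simp only [map_add, map_smul, LinearMap.add_apply, LinearMap.smul_apply, smul_eq_mul,
    P.BM_alt x, LinearMap.IsAlt.neg P.BM_alt]
  have := LinearMap.IsAlt.neg P.BM_alt (h (P.π y)) x
  linear_combination (B P.e z) * (-this)

theorem π_sub_one_pow (g : Module.End F V) (h : Module.End F P.M)
    (hπ : ∀ y, B P.e y = 0 → P.π (g y) = h (P.π y)) (he : ∀ y, B P.e (g y) = B P.e y) :
    ∀ (k : ℕ) (y : V), B P.e y = 0 →
      P.π (((g - 1) ^ k) y) = ((h - 1) ^ k) (P.π y) ∧ B P.e (((g - 1) ^ k) y) = 0 := by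
  intro k
  induction k with
  | zero => intro y hy; exact ⟨rfl, hy⟩
  | succ k ih =>
    intro y hy
    obtain ⟨h1, h2⟩ := ih y hy
    rw [pow_succ', Module.End.mul_apply, pow_succ', Module.End.mul_apply, ← h1]
    refine ⟨?_, ?_⟩
    · simp only [LinearMap.sub_apply, Module.End.one_apply, map_sub, hπ _ h2]
    · simp only [LinearMap.sub_apply, Module.End.one_apply, map_sub, he, sub_self]

theorem iso_nilpotent (h : Module.End F P.M) (hn : IsNilpotent (h - 1)) (x : P.M) (c : F) :
    IsNilpotent (P.iso h x c - 1) := by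
  obtain ⟨n, hn⟩ := hn
  refine ⟨1 + n + 1, LinearMap.ext fun y => ?_⟩
  rw [pow_succ, pow_add, pow_one, Module.End.mul_apply, Module.End.mul_apply]
  set z := (P.iso h x c - 1) y with hz
  have hz0 : B P.e z = 0 := by
    simp only [hz, LinearMap.sub_apply, Module.End.one_apply, map_sub, P.e_iso, sub_self]
  obtain ⟨h1, h2⟩ := P.π_sub_one_pow (P.iso h x c) h
    (fun y hy => by rw [P.π_mk, hy, zero_smul, add_zero]) (P.e_iso h x c) n z hz0
  rw [hn, LinearMap.zero_apply] at h1
  rw [P.π_eq_zero h1 h2, map_smul, LinearMap.sub_apply, P.iso_e, Module.End.one_apply, sub_self,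
    smul_zero, LinearMap.zero_apply]

/-- Unipotent isometries fixing `e` and more, by their data. -/
theorem card_UFix (W : Submodule F V) (hW : TI B W) (he : P.e ∈ W) :
    TI P.BM (W.comap P.M.subtype) ∧ P.W1 (W.comap P.M.subtype) = W ∧
      Nat.card (UFix B W) = Nat.card (UFix P.BM (W.comap P.M.subtype)) *
        Nat.card (P.BM.orthogonal (W.comap P.M.subtype)) * Nat.card F := by
  set U := W.comap P.M.subtype with hU
  have hWe : ∀ w ∈ W, B P.e w = 0 := fun w hw => hW P.e he w hw
  have hπW : ∀ w ∈ W, (P.π w : V) ∈ W := fun w hw => by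
    rw [P.π_val, hWe w hw, zero_smul, sub_zero]
    exact sub_mem hw (Submodule.smul_mem _ _ he)
  refine ⟨fun u hu v hv => hW _ hu _ hv, ?_, ?_⟩
  · ext y
    rw [P.mem_W1]
    refine ⟨fun h => ?_, fun hy => ⟨hπW y hy, hWe y hy⟩⟩
    rw [← P.decomp y, h.2, zero_smul, add_zero]
    exact add_mem h.1 (Submodule.smul_mem _ _ he)
  rw [← Nat.card_prod, ← Nat.card_prod]
  refine (Nat.card_eq_of_bijective (fun d : (UFix P.BM U × P.BM.orthogonal U) × F =>
    (⟨P.iso d.1.1.1 d.1.2 d.2, P.iso_iso _ d.1.1.2.1 _ _, P.iso_nilpotent _ d.1.1.2.2.1 _ _, ?_⟩ :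
      UFix B W)) ⟨?_, ?_⟩).symm
  · intro w hw
    have hu : P.π w ∈ U := hπW w hw
    have hx : P.BM (d.1.2 : P.M) (P.π w) = 0 := by
      rw [← LinearMap.IsAlt.neg P.BM_alt (P.π w) (d.1.2 : P.M),
        (LinearMap.BilinForm.mem_orthogonal_iff.mp d.1.2.2 _ hu : P.BM (P.π w) d.1.2 = 0), neg_zero]
    rw [P.iso_apply, hWe w hw, d.1.1.2.2.2 _ hu, hx, zero_smul, zero_smul, add_zero, zero_mul,
      add_zero, add_zero, add_zero]
    conv_rhs => rw [← P.decomp w, hWe w hw, zero_smul, add_zero]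
  · rintro ⟨⟨h, x⟩, c⟩ ⟨⟨h', x'⟩, c'⟩ e
    have e' : P.iso h.1 x c = P.iso h'.1 x' c' := congrArg Subtype.val e
    have e1 := congrArg P.π (LinearMap.congr_fun e' P.f)
    rw [P.π_mk, P.π_mk, P.π_f, map_zero, map_zero, zero_add, zero_add, P.ef, one_smul, one_smul]
      at e1
    have e2 : c = c' := by
      have := congrArg (fun y => B y P.f) (LinearMap.congr_fun e' P.f)
      simpa [P.iso_apply, P.π_f, P.m_f, P.ef, P.ff] using this
    have e3 : h.1 = h'.1 := by
      refine LinearMap.ext fun u => ?_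
      have := congrArg P.π (LinearMap.congr_fun e' (u : V))
      rwa [P.π_mk, P.π_mk, P.π_m, P.e_m, zero_smul, zero_smul, add_zero, add_zero] at this
    exact Prod.ext (Prod.ext (Subtype.ext e3) (Subtype.ext e1)) e2
  · rintro ⟨g, hiso, hnil, hfix⟩
    have hge : ∀ y, B P.e (g y) = B P.e y := fun y => by
      conv_lhs => rw [← hfix P.e he]
      exact hiso _ _
    let h : Module.End F P.M := P.π.comp (g.comp P.M.subtype)
    have hπ : ∀ y, B P.e y = 0 → P.π (g y) = h (P.π y) := fun y hy => by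
      conv_lhs => rw [← P.decomp y, hy, zero_smul, add_zero, map_add, map_smul, hfix P.e he,
        map_add, map_smul, P.π_e, smul_zero, add_zero]
      rfl
    set x := P.π (g P.f) with hx
    set c := B (g P.f) P.f with hc
    have hgf : g P.f = (x : V) + c • P.e + (1 : F) • P.f := by
      conv_lhs => rw [← P.decomp (g P.f), hge, P.ef]
    have hgu : ∀ u : P.M, g u = (h u : V) + P.BM x (h u) • P.e + (0 : F) • P.f := by
      intro u
      have e1 : g u = (h u : V) + B (g u) P.f • P.e + (0 : F) • P.f := by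
        conv_lhs => rw [← P.decomp (g u), hge, P.e_m]
        rfl
      have e2 := hiso P.f u
      rw [hgf, e1, P.form, P.f_m, mul_zero, one_mul, add_zero, sub_eq_zero] at e2
      rw [e1, ← e2]
      rfl
    have hh : ∀ u v, P.BM (h u) (h v) = P.BM u v := fun u v => by
      have e2 := hiso (u : V) v
      rw [hgu, hgu, P.form] at e2
      simpa [P.BM_apply] using e2
    have hn : IsNilpotent (h - 1) := by
      obtain ⟨n, hn⟩ := hnil
      refine ⟨n, LinearMap.ext fun u => ?_⟩
      have := (P.π_sub_one_pow g h hπ hge n u (P.e_m u)).1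
      rw [hn, LinearMap.zero_apply, map_zero, P.π_m] at this
      exact this.symm
    have hfu : ∀ u ∈ U, h u = u := fun u hu => by
      show P.π (g u) = u
      rw [hfix (u : V) hu, P.π_m]
    have hxo : x ∈ P.BM.orthogonal U := LinearMap.BilinForm.mem_orthogonal_iff.mpr fun u hu => by
      have := congrArg (fun y => B y P.f) ((hgu u).symm.trans (hfix (u : V) hu))
      simp only [map_add, map_smul, LinearMap.add_apply, LinearMap.smul_apply, P.m_f, P.ef, P.ff,
        smul_eq_mul, mul_one, mul_zero, zero_add, add_zero, hfu u hu] at this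
      show P.BM u x = 0
      rw [← LinearMap.IsAlt.neg P.BM_alt x u, this, neg_zero]
    refine ⟨⟨(⟨h, hh, hn, hfu⟩, ⟨x, hxo⟩), c⟩, Subtype.ext (LinearMap.ext fun y => ?_)⟩
    show P.iso h x c y = g y
    conv_rhs => rw [← P.decomp y, map_add, map_add, map_smul, map_smul, hfix P.e he, hgf, hgu]
    rw [P.iso_apply]
    simp only [Submodule.coe_add, Submodule.coe_smul, smul_add, add_smul, mul_smul, zero_smul,
      one_smul, add_zero]
    abel

end HPair

end Cfsg.Agent.Lib.SympUni
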