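import Cfsg.Agent.Lib.SympUni.Sums

/-!
The number of unipotent isometries of a nondegenerate alternating form over a finite field.
-/

set_option autoImplicit false

namespace Cfsg.Agent.Lib.SympUni

open Module

universe u v

variable {F : Type u} [Field F] [Fintype F]

/-- The Möbius weight. -/
def mu (q : ℤ) (k : ℕ) : ℤ := (-1) ^ k * q ^ k.choose 2

theorem mu_succ (q : ℤ) (j : ℕ) : mu q (j + 1) = -(q ^ j * mu q j) := by
  rw [mu, mu, Nat.choose_succ_succ, Nat.choose_one_right, pow_add, pow_succ]
  ring

/-- The exponent of the number of unipotents fixing a totally isotropic `k`-space. -/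
def expo (k n : ℕ) : ℕ := 2 * (n - k) ^ 2 + 2 * k * (n - k) + (k + 1).choose 2

theorem expo_succ (k n : ℕ) (h : k ≤ n) :
    expo (k + 1) (n + 1) = expo k n + (2 * n - k) + 1 := by
  obtain ⟨d, rfl⟩ := Nat.exists_eq_add_of_le h
  rw [expo, expo, show k + d + 1 - (k + 1) = d by omega, show k + d - k = d by omega,
    show 2 * (k + d) - k = k + 2 * d by omega, Nat.choose_succ_succ (k + 1), Nat.choose_one_right]
  ring

theorem choose_two_add (k : ℕ) : k.choose 2 + (k + 1).choose 2 = k ^ 2 := by
  induction k with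
  | zero => rfl
  | succ k ih =>
    rw [Nat.choose_succ_succ (k + 1), Nat.choose_one_right, Nat.choose_succ_succ k,
      Nat.choose_one_right] at *
    nlinarith [ih]

theorem expo_weight (k n : ℕ) (h : k ≤ n) : k.choose 2 + expo k n = (n - k) ^ 2 + n ^ 2 := by
  obtain ⟨d, rfl⟩ := Nat.exists_eq_add_of_le h
  rw [expo, show k + d - k = d by omega]
  have := choose_two_add k
  nlinarith

variable {V : Type v} [AddCommGroup V] [Module F V] [Finite V]
variable {B : LinearMap.BilinForm F V}

theorem exists_pair (ha : B.IsAlt) (hB : B.Nondegenerate) {z : V} (hz : z ≠ 0) :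
    ∃ P : HPair B, P.e = z := by
  obtain ⟨y, hy⟩ : ∃ y, B z y ≠ 0 := by
    by_contra h
    push Not at h
    exact hz (hB.1 z h)
  exact ⟨⟨z, (B z y)⁻¹ • y, ha, by rw [map_smul, smul_eq_mul, inv_mul_cancel₀ hy]⟩, rfl⟩

theorem two_mul_finrank_le (hB : B.Nondegenerate) {W : Submodule F V} (hW : TI B W) :
    2 * finrank F W ≤ finrank F V := by
  have h1 : W ≤ B.orthogonal W := fun y hy =>
    LinearMap.BilinForm.mem_orthogonal_iff.mpr fun x hx => hW x hx y hy
  have h2 := Submodule.finrank_mono h1
  rw [LinearMap.BilinForm.finrank_orthogonal hB] at h2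
  have := Submodule.finrank_le W
  omega

open scoped Classical in
theorem sum_TI [Fintype (Submodule F V)] (P : HPair B) [Fintype (Submodule F P.M)] (c : ℕ → ℤ) :
    ∑ W : {W : Submodule F V // TI B W}, c (finrank F W.1) =
      ∑ U : {U : Submodule F P.M // TI P.BM U},
        (c (finrank F U.1 + 1) + (Fintype.card F : ℤ) ^ finrank F U.1 * c (finrank F U.1) +
          (Fintype.card F : ℤ) ^ (finrank F P.M - finrank F U.1 + 1) * c (finrank F U.1 + 1)) := by
  have hsplit : ∑ W : {W : Submodule F V // TI B W}, c (finrank F W.1) =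
      (∑ W : {W : Submodule F V // TI B W ∧ W ≤ LinearMap.ker (B P.e)}, c (finrank F W.1)) +
      ∑ W : {W : Submodule F V // TI B W ∧ ¬ W ≤ LinearMap.ker (B P.e)}, c (finrank F W.1) := by
    rw [← Finset.sum_subtype (Finset.univ.filter fun W => TI B W) (by simp)
        (fun W => c (finrank F W)),
      ← Finset.sum_subtype (Finset.univ.filter fun W => TI B W ∧ W ≤ LinearMap.ker (B P.e)) (by simp)
        (fun W => c (finrank F W)),
      ← Finset.sum_subtype (Finset.univ.filter fun W => TI B W ∧ ¬ W ≤ LinearMap.ker (B P.e)) (by simp)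
        (fun W => c (finrank F W)), ← Finset.sum_filter_add_sum_filter_not
          (Finset.univ.filter fun W => TI B W) (fun W => W ≤ LinearMap.ker (B P.e)),
      Finset.filter_filter, Finset.filter_filter]
  have htop : (LinearMap.ker (B P.e)).comap P.M.subtype = ⊤ :=
    eq_top_iff.mpr fun u _ => P.e_m u
  rw [hsplit, P.sum_below (show P.e ∈ LinearMap.ker (B P.e) from P.ee) le_rfl, P.sum_outside]
  conv_rhs => rw [Finset.sum_add_distrib]
  congr 1
  refine Fintype.sum_equiv (Equiv.subtypeEquivRight fun U => ?_) _ _ (fun U => rfl)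
  rw [htop]
  simp

open scoped Classical in
theorem euler : ∀ (n : ℕ) (V : Type v) [AddCommGroup V] [Module F V] [Finite V]
    [Fintype (Submodule F V)] (B : LinearMap.BilinForm F V), B.IsAlt → B.Nondegenerate →
    finrank F V = 2 * n →
    (∑ W : {W : Submodule F V // TI B W}, mu (Fintype.card F : ℤ) (finrank F W.1)) =
        (-1) ^ n * (Fintype.card F : ℤ) ^ n ^ 2 ∧
      (∑ W : {W : Submodule F V // TI B W},
        (-1 : ℤ) ^ finrank F W.1 * (Fintype.card F : ℤ) ^ (n - finrank F W.1) ^ 2) = (-1) ^ n := by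
  intro n
  induction n with
  | zero =>
    intro V _ _ _ _ B ha hB hn
    have hsub : Subsingleton V := Module.finrank_zero_iff.mp (by simpa using hn)
    have : Unique {W : Submodule F V // TI B W} :=
      { default := ⟨⊥, fun x hx y hy => by rw [Submodule.mem_bot] at hx; simp [hx]⟩
        uniq := fun W => Subtype.ext (Subsingleton.elim _ _) }
    rw [Fintype.sum_unique, Fintype.sum_unique]
    have h0 : finrank F (default : {W : Submodule F V // TI B W}).1 = 0 := by
      have := Submodule.finrank_le (default : {W : Submodule F V // TI B W}).1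
      omega
    simp [h0, mu]
  | succ n ih =>
    intro V _ _ _ _ B ha hB hn
    obtain ⟨z, hz⟩ : ∃ z : V, z ≠ 0 := by
      have : Nontrivial V := Module.finrank_pos_iff.mp (show 0 < finrank F V by omega)
      exact exists_ne 0
    obtain ⟨P, -⟩ := exists_pair ha hB hz
    letI : Fintype (Submodule F P.M) := Fintype.ofFinite _
    have hM : finrank F P.M = 2 * n := by
      have := P.finrank_M
      omega
    obtain ⟨e1, e2⟩ := ih P.M P.BM P.BM_alt (P.BM_nondeg hB) hM
    have hle : ∀ U : {U : Submodule F P.M // TI P.BM U}, finrank F U.1 ≤ n := fun U => by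
      have := two_mul_finrank_le (P.BM_nondeg hB) U.2
      omega
    set q : ℤ := (Fintype.card F : ℤ)
    refine ⟨?_, ?_⟩
    · rw [sum_TI P, Finset.sum_congr rfl (fun U _ => show _ = -q ^ (2 * n + 1) * mu q (finrank F U.1)
        from ?_), ← Finset.mul_sum, e1]
      · ring
      · have := hle U
        rw [hM, mu_succ, show q ^ (2 * n + 1) =
          q ^ (2 * n - finrank F U.1 + 1) * q ^ finrank F U.1 by rw [← pow_add]; congr 1; omega]
        ring
    · rw [sum_TI P (fun k => (-1 : ℤ) ^ k * q ^ (n + 1 - k) ^ 2),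
        Finset.sum_congr rfl (fun U _ => show _ =
        -((-1 : ℤ) ^ finrank F U.1 * q ^ (n - finrank F U.1) ^ 2) from ?_), Finset.sum_neg_distrib, e2]
      · ring
      · obtain ⟨d, hd⟩ := Nat.exists_eq_add_of_le (hle U)
        rw [hM, hd]
        set j := finrank F U.1
        rw [show j + d + 1 - (j + 1) = d by omega, show j + d + 1 - j = d + 1 by omega,
          show j + d - j = d by omega, show 2 * (j + d) - j + 1 = j + 2 * d + 1 by omega,
          show (d + 1) ^ 2 = d ^ 2 + (2 * d + 1) by ring, pow_succ (-1 : ℤ) j, pow_add q (d ^ 2)]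
        simp only [pow_add]
        ring

theorem sum_cancel [Fintype (Submodule F V)] (ha : B.IsAlt) (hB : B.Nondegenerate)
    {K : Submodule F V} {z : V} (hz : z ≠ 0) (hzK : z ∈ K) (hK : ∀ k ∈ K, B z k = 0)
    [DecidablePred fun W => TI B W ∧ W ≤ K] :
    ∑ W : {W : Submodule F V // TI B W ∧ W ≤ K}, mu (Fintype.card F : ℤ) (finrank F W.1) = 0 := by
  classical
  obtain ⟨P, rfl⟩ := exists_pair ha hB hz
  letI : Fintype (Submodule F P.M) := Fintype.ofFinite _
  rw [P.sum_below hzK hK]
  refine Finset.sum_eq_zero fun U _ => ?_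
  rw [mu_succ]
  ring

/-- Restricting the fixed subspace. -/
def fixEquiv (W : Submodule F V) :
    UFix B W ≃ {g : UFix B (⊥ : Submodule F V) // W ≤ LinearMap.ker (g.1 - 1)} where
  toFun g := ⟨⟨g.1, g.2.1, g.2.2.1, fun w hw => by rw [(Submodule.mem_bot F).mp hw, map_zero]⟩,
    fun w hw => by rw [LinearMap.mem_ker, LinearMap.sub_apply, g.2.2.2 w hw]; exact sub_self w⟩
  invFun g := ⟨g.1.1, g.1.2.1, g.1.2.2.1, fun w hw => sub_eq_zero.mp (LinearMap.mem_ker.mp (g.2 hw))⟩
  left_inv g := rfl
  right_inv g := rfl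

open scoped Classical in
theorem double_count [Fintype (Submodule F V)] (ha : B.IsAlt) (hB : B.Nondegenerate) :
    ∑ W : {W : Submodule F V // TI B W}, mu (Fintype.card F : ℤ) (finrank F W.1) =
      ∑ W : {W : Submodule F V // TI B W},
        mu (Fintype.card F : ℤ) (finrank F W.1) * (Nat.card (UFix B W.1) : ℤ) := by
  letI : Fintype (UFix B (⊥ : Submodule F V)) := Fintype.ofFinite _
  set q : ℤ := (Fintype.card F : ℤ)
  have h1 : ∀ g : UFix B (⊥ : Submodule F V), g.1 ≠ 1 →
      ∑ W : {W : Submodule F V // TI B W},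
        (if W.1 ≤ LinearMap.ker (g.1 - 1) then mu q (finrank F W.1) else 0) = 0 := by
    intro g hg
    set N := g.1 - 1 with hN
    obtain ⟨n, hn⟩ := g.2.2.1
    have hex : ∃ i, N ^ (i + 1) = 0 := ⟨n, by rw [pow_succ, hn, zero_mul]⟩
    set i := Nat.find hex with hi
    have hi0 : i ≠ 0 := fun h => by
      have := Nat.find_spec hex
      rw [← hi, h, zero_add, pow_one] at this
      exact hg (sub_eq_zero.mp this)
    have hNi : N ^ i ≠ 0 := by
      obtain ⟨j, hj⟩ := Nat.exists_eq_succ_of_ne_zero hi0
      rw [hj]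
      exact Nat.find_min hex (show j < i by omega)
    obtain ⟨v, hv⟩ : ∃ v, (N ^ i) v ≠ 0 := by
      by_contra h
      push Not at h
      exact hNi (LinearMap.ext h)
    set z := (N ^ i) v with hz
    have hzK : z ∈ LinearMap.ker N := by
      rw [LinearMap.mem_ker, hz, ← Module.End.mul_apply, ← pow_succ', Nat.find_spec hex]
      rfl
    have hzr : ∃ y, N y = z := by
      obtain ⟨j, hj⟩ := Nat.exists_eq_succ_of_ne_zero hi0
      exact ⟨(N ^ j) v, by rw [hz, hj, pow_succ', Module.End.mul_apply]⟩
    obtain ⟨y, hy⟩ := hzr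
    have hK : ∀ k ∈ LinearMap.ker N, B z k = 0 := by
      intro k hk
      have hgk : g.1 k = k := sub_eq_zero.mp (LinearMap.mem_ker.mp hk)
      have h := g.2.1 y k
      rw [hgk] at h
      rw [← hy, hN, LinearMap.sub_apply, Module.End.one_apply, map_sub, LinearMap.sub_apply, h,
        sub_self]
    have := sum_cancel (F := F) ha hB hv hzK hK
    refine Eq.trans ?_ this
    rw [← Finset.sum_filter]
    exact Finset.sum_bij' (fun W hW => ⟨W.1, W.2, (Finset.mem_filter.mp hW).2⟩)
      (fun W _ => ⟨W.1, W.2.1⟩) (fun W _ => Finset.mem_univ _)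
      (fun W _ => Finset.mem_filter.mpr ⟨Finset.mem_univ _, W.2.2⟩)
      (fun W _ => rfl) (fun W _ => rfl) (fun W _ => rfl)
  let one : UFix B (⊥ : Submodule F V) := ⟨1, fun x y => rfl, by rw [sub_self]; exact IsNilpotent.zero,
    fun w hw => rfl⟩
  have h2 : ∑ g : UFix B (⊥ : Submodule F V), ∑ W : {W : Submodule F V // TI B W},
        (if W.1 ≤ LinearMap.ker (g.1 - 1) then mu q (finrank F W.1) else 0) =
      ∑ W : {W : Submodule F V // TI B W}, mu q (finrank F W.1) := by
    rw [Fintype.sum_eq_single one (fun g hg => h1 g (fun h => hg (Subtype.ext h)))]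
    refine Finset.sum_congr rfl fun W _ => if_pos fun w _ => ?_
    show ((1 : Module.End F V) - 1) w = 0
    rw [sub_self, LinearMap.zero_apply]
  rw [← h2, Finset.sum_comm]
  refine Finset.sum_congr rfl fun W _ => ?_
  rw [← Finset.sum_filter, Finset.sum_const, nsmul_eq_mul, mul_comm, Nat.card_congr (fixEquiv W.1),
    Nat.card_eq_fintype_card, Fintype.card_subtype]

theorem card_UFix_all : ∀ (n : ℕ) (V : Type v) [AddCommGroup V] [Module F V] [Finite V]
    (B : LinearMap.BilinForm F V), B.IsAlt → B.Nondegenerate → finrank F V = 2 * n →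
    ∀ W : Submodule F V, TI B W →
      Nat.card (UFix B W) = Fintype.card F ^ expo (finrank F W) n := by
  intro n
  induction n using Nat.strong_induction_on with
  | _ n ih =>
    intro V _ _ _ B ha hB hn
    classical
    letI : Fintype (Submodule F V) := Fintype.ofFinite _
    have hpos : ∀ W : Submodule F V, TI B W → W ≠ ⊥ →
        Nat.card (UFix B W) = Fintype.card F ^ expo (finrank F W) n := by
      intro W hW hne
      obtain ⟨z, hzW, hz⟩ := (Submodule.ne_bot_iff W).mp hne
      obtain ⟨P, rfl⟩ := exists_pair ha hB hz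
      obtain ⟨hU, hW1, hcard⟩ := P.card_UFix W hW hzW
      set U := W.comap P.M.subtype
      have hk : finrank F W = finrank F U + 1 := by rw [← hW1, P.finrank_W1]
      have hM := P.finrank_M
      obtain ⟨m, rfl⟩ : ∃ m, n = m + 1 := ⟨n - 1, by omega⟩
      have hUm := two_mul_finrank_le (P.BM_nondeg hB) hU
      rw [hcard, ih m (by omega) P.M P.BM P.BM_alt (P.BM_nondeg hB) (by omega) U hU,
        Module.natCard_eq_pow_finrank (K := F) (V := P.BM.orthogonal U),
        LinearMap.BilinForm.finrank_orthogonal (P.BM_nondeg hB), Nat.card_eq_fintype_card, hk,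
        expo_succ _ _ (by omega), pow_succ, pow_add, show finrank F P.M = 2 * m by omega]
    intro W hW
    by_cases hne : W = ⊥
    swap
    · exact hpos W hW hne
    subst hne
    set q : ℤ := (Fintype.card F : ℤ) with hq
    have hle : ∀ W : {W : Submodule F V // TI B W}, finrank F W.1 ≤ n := fun W => by
      have := two_mul_finrank_le hB W.2
      omega
    obtain ⟨e1, e2⟩ := euler n V B ha hB hn
    have hd := double_count ha hB
    rw [e1] at hd
    have hw : ∑ W : {W : Submodule F V // TI B W}, mu q (finrank F W.1) * q ^ expo (finrank F W.1) n =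
        (-1) ^ n * q ^ n ^ 2 := by
      rw [mul_comm, ← e2, Finset.mul_sum]
      refine Finset.sum_congr rfl fun W _ => ?_
      rw [mu, mul_assoc, ← pow_add, expo_weight _ _ (hle W), pow_add]
      ring
    have h0 : TI B (⊥ : Submodule F V) := hW
    have hdiff : ∑ W : {W : Submodule F V // TI B W},
        mu q (finrank F W.1) * ((Nat.card (UFix B W.1) : ℤ) - q ^ expo (finrank F W.1) n) = 0 := by
      rw [hq] at hw ⊢
      simp only [mul_sub, Finset.sum_sub_distrib, ← hd, hw, sub_self]
    rw [Fintype.sum_eq_single ⟨⊥, h0⟩ (fun W hW => by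
      rw [hpos W.1 W.2 (fun h => hW (Subtype.ext h)), Nat.cast_pow, sub_self, mul_zero])] at hdiff
    have : (Nat.card (UFix B (⊥ : Submodule F V)) : ℤ) - q ^ expo (finrank F (⊥ : Submodule F V)) n = 0 := by
      refine (mul_eq_zero.mp hdiff).resolve_left ?_
      simp [mu, hq]
    have h := sub_eq_zero.mp this
    rw [hq] at h
    exact_mod_cast h

/-- Steinberg's count. -/
theorem card_unipotent (n : ℕ) (B : LinearMap.BilinForm F V) (ha : B.IsAlt) (hB : B.Nondegenerate)
    (hn : finrank F V = 2 * n) :
    Nat.card (UFix B (⊥ : Submodule F V)) = Fintype.card F ^ (2 * n ^ 2) := by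
  rw [card_UFix_all n V B ha hB hn ⊥ (fun x hx y _ => by simp [(Submodule.mem_bot F).mp hx]),
    finrank_bot]
  simp [expo]

end Cfsg.Agent.Lib.SympUni
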