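import Cfsg.Agent.Lib.SympUni.Basic

/-!
Sums over totally isotropic subspaces, split along a hyperbolic pair.
-/

set_option autoImplicit false

namespace Cfsg.Agent.Lib.SympUni

open Module

variable {F : Type*} [Field F] [Fintype F] {V : Type*} [AddCommGroup V] [Module F V] [Finite V]

instance finite_End : Finite (Module.End F V) := Finite.of_injective _ DFunLike.coe_injective

instance finite_UFix (B : LinearMap.BilinForm F V) (W : Submodule F V) : Finite (UFix B W) := by
  unfold UFix; infer_instance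

namespace HPair

variable {B : LinearMap.BilinForm F V} (P : HPair B)

theorem TI_W1 {U : Submodule F P.M} (hU : TI P.BM U) : TI B (P.W1 U) := by
  intro y hy z hz
  rw [P.form', ← P.BM_apply, hU _ hy.1 _ hz.1, hy.2, hz.2]
  simp

theorem W1_le_iff {U : Submodule F P.M} {K : Submodule F V} (he : P.e ∈ K) :
    P.W1 U ≤ K ↔ U ≤ K.comap P.M.subtype := by
  refine ⟨fun h u hu => h (P.mem_W1.mpr ⟨(show P.π (u : V) ∈ U by rw [P.π_m]; exact hu), P.e_m u⟩), fun h y hy => ?_⟩
  rw [← P.decomp y, hy.2, zero_smul, add_zero]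
  exact add_mem (h hy.1) (Submodule.smul_mem _ _ he)

theorem finrank_W1 (U : Submodule F P.M) : finrank F (P.W1 U) = finrank F U + 1 := by
  rw [(P.W1Equiv U).finrank_eq, Module.finrank_prod, Module.finrank_self]

theorem e_g2 (U : Submodule F P.M) (φ : U →ₗ[F] F) (u : U) : B P.e (P.g2 U φ u) = 0 := by
  simp [P.g2_apply, P.e_m, P.ee]

theorem TI_g2 {U : Submodule F P.M} (hU : TI P.BM U) (φ : U →ₗ[F] F) :
    TI B (LinearMap.range (P.g2 U φ)) := by
  rintro _ ⟨u, rfl⟩ _ ⟨v, rfl⟩
  rw [P.form', ← P.BM_apply, P.π_g2, P.π_g2, hU _ u.2 _ v.2, P.e_g2, P.e_g2]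
  simp

theorem g2_le_iff {U : Submodule F P.M} (φ : U →ₗ[F] F) {K : Submodule F V} (he : P.e ∈ K) :
    LinearMap.range (P.g2 U φ) ≤ K ↔ U ≤ K.comap P.M.subtype := by
  refine ⟨fun h u hu => ?_, ?_⟩
  · have := sub_mem (h ⟨⟨u, hu⟩, rfl⟩) (Submodule.smul_mem _ (φ ⟨u, hu⟩) he)
    rwa [P.g2_apply, add_sub_cancel_right] at this
  · rintro h _ ⟨u, rfl⟩
    rw [P.g2_apply]
    exact add_mem (h u.2) (Submodule.smul_mem _ _ he)

theorem finrank_g2 (U : Submodule F P.M) (φ : U →ₗ[F] F) :
    finrank F (LinearMap.range (P.g2 U φ)) = finrank F U :=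
  LinearMap.finrank_range_of_inj (P.g2_injective U φ)

theorem e_notMem_g2 (U : Submodule F P.M) (φ : U →ₗ[F] F) : P.e ∉ LinearMap.range (P.g2 U φ) := by
  rintro ⟨u, hu⟩
  have h1 : u = 0 := Subtype.ext (by rw [← P.π_g2 U φ u, hu, P.π_e]; rfl)
  rw [h1, map_zero] at hu
  exact P.e_ne hu.symm

/-- The subspaces below `K`, where `e ∈ K ≤ e^⊥`. -/
theorem sum_below [Fintype (Submodule F V)] [Fintype (Submodule F P.M)]
    {K : Submodule F V} (he : P.e ∈ K) (hK : K ≤ LinearMap.ker (B P.e))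
    [DecidablePred fun W => TI B W ∧ W ≤ K]
    [DecidablePred fun U => TI P.BM U ∧ U ≤ K.comap P.M.subtype] (c : ℕ → ℤ) :
    ∑ W : {W : Submodule F V // TI B W ∧ W ≤ K}, c (finrank F W.1) =
      ∑ U : {U : Submodule F P.M // TI P.BM U ∧ U ≤ K.comap P.M.subtype},
        (c (finrank F U.1 + 1) + (Fintype.card F : ℤ) ^ finrank F U.1 * c (finrank F U.1)) := by
  classical
  set T := {U : Submodule F P.M // TI P.BM U ∧ U ≤ K.comap P.M.subtype}
  haveI : ∀ U : T, Finite (U.1 →ₗ[F] F) := fun U => Finite.of_injective _ DFunLike.coe_injective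
  letI : ∀ U : T, Fintype (U.1 →ₗ[F] F) := fun U => Fintype.ofFinite _
  let Φ : T ⊕ (Σ U : T, U.1 →ₗ[F] F) → {W : Submodule F V // TI B W ∧ W ≤ K} :=
    Sum.elim (fun U => ⟨P.W1 U.1, P.TI_W1 U.2.1, (P.W1_le_iff he).mpr U.2.2⟩)
      (fun s => ⟨LinearMap.range (P.g2 s.1.1 s.2), P.TI_g2 s.1.2.1 s.2,
        (P.g2_le_iff s.2 he).mpr s.1.2.2⟩)
  have hΦ : Function.Bijective Φ := by
    constructor
    · rintro (U | ⟨U, φ⟩) (U' | ⟨U', φ'⟩) h <;> have h' := congrArg Subtype.val h <;>
        simp only [Φ, Sum.elim_inl, Sum.elim_inr] at h'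
      · refine congrArg Sum.inl (Subtype.ext (SetLike.ext fun u => ?_))
        have := SetLike.ext_iff.mp h' (u : V)
        simpa [P.mem_W1, P.π_m, P.e_m] using this
      · exact absurd (h' ▸ P.e_mem_W1 U.1) (P.e_notMem_g2 _ _)
      · exact absurd (h'.symm ▸ P.e_mem_W1 U'.1) (P.e_notMem_g2 _ _)
      · have hU : U = U' := by
          refine Subtype.ext (SetLike.ext fun u => ⟨fun hu => ?_, fun hu => ?_⟩)
          · obtain ⟨v, hv⟩ := (h' ▸ LinearMap.mem_range_self (P.g2 U.1 φ) ⟨u, hu⟩ :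
              P.g2 U.1 φ ⟨u, hu⟩ ∈ LinearMap.range (P.g2 U'.1 φ'))
            have := congrArg P.π hv
            rw [P.π_g2, P.π_g2] at this
            have e : (v : P.M) = u := this
            exact e ▸ v.2
          · obtain ⟨v, hv⟩ := (h'.symm ▸ LinearMap.mem_range_self (P.g2 U'.1 φ') ⟨u, hu⟩ :
              P.g2 U'.1 φ' ⟨u, hu⟩ ∈ LinearMap.range (P.g2 U.1 φ))
            have := congrArg P.π hv
            rw [P.π_g2, P.π_g2] at this
            have e : (v : P.M) = u := this
            exact e ▸ v.2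
        subst hU
        have hφ : φ = φ' := by
          refine LinearMap.ext fun u => ?_
          obtain ⟨v, hv⟩ := (h' ▸ LinearMap.mem_range_self (P.g2 U.1 φ) u :
            P.g2 U.1 φ u ∈ LinearMap.range (P.g2 U.1 φ'))
          have h1 : v = u := Subtype.ext (by rw [← P.π_g2 U.1 φ' v, hv, P.π_g2])
          rw [h1, P.g2_apply, P.g2_apply, add_right_inj] at hv
          exact (smul_left_injective F P.e_ne hv).symm
        rw [hφ]
    · rintro ⟨W, hW, hWK⟩
      by_cases heW : P.e ∈ W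
      · obtain ⟨h1, h2, -⟩ := P.card_UFix W hW heW
        exact ⟨Sum.inl ⟨_, h1, Submodule.comap_mono hWK⟩, Subtype.ext h2⟩
      · let l : W →ₗ[F] P.M := P.π.comp W.subtype
        have hl : Function.Injective l := by
          rw [← LinearMap.ker_eq_bot, LinearMap.ker_eq_bot']
          intro w hw
          have h0 : (w : V) = B (w : V) P.f • P.e := P.π_eq_zero hw (hK (hWK w.2))
          refine Subtype.ext (by_contra fun hne => heW ?_)
          have ha : B (w : V) P.f ≠ 0 := fun ha => hne (by rw [h0, ha, zero_smul]; rfl)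
          rw [← inv_smul_smul₀ ha P.e, ← h0]
          exact W.smul_mem _ w.2
        let r := LinearEquiv.ofInjective l hl
        let φ : LinearMap.range l →ₗ[F] F := ((B.flip P.f).comp W.subtype).comp r.symm.toLinearMap
        have hg : ∀ w : W, P.g2 _ φ (r w) = w := fun w => by
          rw [P.g2_apply]
          show (P.π (w : V) : V) + B ((r.symm (r w) : W) : V) P.f • P.e = w
          rw [r.symm_apply_apply]
          conv_rhs => rw [← P.decomp (w : V), show B P.e (w : V) = 0 from hK (hWK w.2), zero_smul,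
            add_zero]
        have hrange : LinearMap.range (P.g2 _ φ) = W := by
          refine le_antisymm ?_ fun w hw => ⟨r ⟨w, hw⟩, hg ⟨w, hw⟩⟩
          rintro _ ⟨u, rfl⟩
          obtain ⟨w, rfl⟩ := r.surjective u
          rw [hg]
          exact w.2
        refine ⟨Sum.inr ⟨⟨LinearMap.range l, ?_, ?_⟩, φ⟩, Subtype.ext hrange⟩
        · rintro _ ⟨v, rfl⟩ _ ⟨w, rfl⟩
          show P.BM (P.π (v : V)) (P.π w) = 0
          have := hW (v : V) v.2 w w.2
          rwa [P.form', show B P.e (v : V) = 0 from hK (hWK v.2),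
            show B P.e (w : V) = 0 from hK (hWK w.2), mul_zero, zero_mul, add_zero, sub_zero] at this
        · exact (P.g2_le_iff φ he).mp (hrange.trans_le hWK)
  rw [← hΦ.sum_comp (fun W => c (finrank F W.1)), Fintype.sum_sum_type, Finset.sum_add_distrib,
    Fintype.sum_sigma]
  refine congrArg₂ (· + ·) (Finset.sum_congr rfl fun U _ => ?_) (Finset.sum_congr rfl fun U _ => ?_)
  · show c (finrank F (P.W1 U.1)) = _
    rw [P.finrank_W1]
  · show ∑ φ : U.1 →ₗ[F] F, c (finrank F (LinearMap.range (P.g2 U.1 φ))) = _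
    simp only [P.finrank_g2, Finset.sum_const, Finset.card_univ, nsmul_eq_mul]
    have hc : Fintype.card (U.1 →ₗ[F] F) = Fintype.card F ^ finrank F U.1 := by
      rw [Fintype.card_eq_nat_card, ← Nat.card_eq_fintype_card (α := F),
        Module.natCard_eq_pow_finrank (K := F) (V := U.1 →ₗ[F] F), Module.finrank_linearMap_self]
    rw [hc, Nat.cast_pow]

/-- A chosen complement. -/
noncomputable def compl (U : Submodule F P.M) : Submodule F P.M :=
  Classical.choose U.exists_isCompl

theorem isCompl_compl (U : Submodule F P.M) : IsCompl U (P.compl U) :=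
  Classical.choose_spec U.exists_isCompl

theorem TI_g3 {U : Submodule F P.M} (hU : TI P.BM U) (x : P.M) (c : F) :
    TI B (LinearMap.range (P.g3 U x c)) := by
  rintro _ ⟨v, rfl⟩ _ ⟨w, rfl⟩
  have e : ∀ z : U × F, B (P.g3 U x c z) P.f = P.BM x z.1 + z.2 * c := fun z => by
    simp [P.g3_apply, P.m_f, P.ef, P.ff]
  rw [P.form', ← P.BM_apply, P.π_g3, P.π_g3, P.e_g3, P.e_g3, e, e]
  simp only [map_add, map_smul, LinearMap.add_apply, LinearMap.smul_apply, smul_eq_mul,
    hU _ v.1.2 _ w.1.2, P.BM_alt x, ← LinearMap.IsAlt.neg P.BM_alt x (v.1 : P.M)]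
  ring

/-- The subspaces outside `e^⊥`. -/
theorem sum_outside [Fintype (Submodule F V)] [Fintype (Submodule F P.M)]
    [DecidablePred fun W => TI B W ∧ ¬ W ≤ LinearMap.ker (B P.e)]
    [DecidablePred fun U => TI P.BM U] (c : ℕ → ℤ) :
    ∑ W : {W : Submodule F V // TI B W ∧ ¬ W ≤ LinearMap.ker (B P.e)}, c (finrank F W.1) =
      ∑ U : {U : Submodule F P.M // TI P.BM U},
        (Fintype.card F : ℤ) ^ (finrank F P.M - finrank F U.1 + 1) * c (finrank F U.1 + 1) := by
  classical
  set T := {U : Submodule F P.M // TI P.BM U}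
  letI : ∀ U : T, Fintype (P.compl U.1) := fun U => Fintype.ofFinite _
  let Φ : (Σ U : T, P.compl U.1 × F) → {W : Submodule F V // TI B W ∧ ¬ W ≤ LinearMap.ker (B P.e)} :=
    fun s => ⟨LinearMap.range (P.g3 s.1.1 s.2.1 s.2.2), P.TI_g3 s.1.2 _ _, fun h => by
      have := h (LinearMap.mem_range_self (P.g3 s.1.1 s.2.1 s.2.2) (0, 1))
      rw [LinearMap.mem_ker, P.e_g3] at this
      exact one_ne_zero this⟩
  have hsep : ∀ (U : Submodule F P.M) (u v : P.M), u ∈ U → v ∈ P.compl U → ∀ (u' v' : P.M),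
      u' ∈ U → v' ∈ P.compl U → u + v = u' + v' → u = u' ∧ v = v' := by
    intro U u v hu hv u' v' hu' hv' h
    have h1 : u - u' = v' - v := sub_eq_sub_iff_add_eq_add.mpr (by rw [h, add_comm])
    have h2 : u - u' = 0 := Submodule.disjoint_def.mp (P.isCompl_compl U).disjoint _ (sub_mem hu hu')
      (h1 ▸ sub_mem hv' hv)
    exact ⟨sub_eq_zero.mp h2, (sub_eq_zero.mp (h1.symm.trans h2)).symm⟩
  have hΦ : Function.Bijective Φ := by
    constructor
    · rintro ⟨U, x, a⟩ ⟨U', x', a'⟩ h
      have h' : LinearMap.range (P.g3 U.1 x a) = LinearMap.range (P.g3 U'.1 x' a') :=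
        congrArg Subtype.val h
      have hU : U = U' := by
        refine Subtype.ext (SetLike.ext fun u => ⟨fun hu => ?_, fun hu => ?_⟩)
        · obtain ⟨v, hv⟩ := (h' ▸ LinearMap.mem_range_self (P.g3 U.1 x a) (⟨u, hu⟩, 0) :
            P.g3 U.1 x a (⟨u, hu⟩, 0) ∈ LinearMap.range (P.g3 U'.1 x' a'))
          have h1 := congrArg (B P.e) hv
          rw [P.e_g3, P.e_g3] at h1
          have h2 := congrArg P.π hv
          rw [P.π_g3, P.π_g3, h1] at h2
          simp only [zero_smul, add_zero] at h2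
          exact h2 ▸ v.1.2
        · obtain ⟨v, hv⟩ := (h'.symm ▸ LinearMap.mem_range_self (P.g3 U'.1 x' a') (⟨u, hu⟩, 0) :
            P.g3 U'.1 x' a' (⟨u, hu⟩, 0) ∈ LinearMap.range (P.g3 U.1 x a))
          have h1 := congrArg (B P.e) hv
          rw [P.e_g3, P.e_g3] at h1
          have h2 := congrArg P.π hv
          rw [P.π_g3, P.π_g3, h1] at h2
          simp only [zero_smul, add_zero] at h2
          exact h2 ▸ v.1.2
      subst hU
      obtain ⟨v, hv⟩ := (h' ▸ LinearMap.mem_range_self (P.g3 U.1 x a) (0, 1) :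
        P.g3 U.1 x a (0, 1) ∈ LinearMap.range (P.g3 U.1 x' a'))
      have h1 := congrArg (B P.e) hv
      rw [P.e_g3, P.e_g3] at h1
      have h2 := congrArg P.π hv
      rw [P.π_g3, P.π_g3, h1] at h2
      simp only [one_smul, ZeroMemClass.coe_zero, zero_add] at h2
      obtain ⟨hv1, hx⟩ := hsep U.1 _ _ v.1.2 x'.2 0 x (zero_mem _) x.2 (by rw [h2, zero_add])
      have hv1' : v.1 = 0 := Subtype.ext hv1
      have hx' : x' = x := Subtype.ext hx
      subst hx'
      have ha : a = a' := by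
        have := congrArg (fun y => B y P.f) hv
        simpa [P.g3_apply, hv1', h1, P.m_f, P.ef, P.ff] using this.symm
      rw [ha]
    · rintro ⟨W, hW, hWe⟩
      obtain ⟨w₀, hw₀, hw₀e⟩ := SetLike.not_le_iff_exists.mp hWe
      set v₀ := (B P.e w₀)⁻¹ • w₀ with hv₀
      have hv₀W : v₀ ∈ W := W.smul_mem _ hw₀
      have hv₀e : B P.e v₀ = 1 := by
        rw [hv₀, map_smul, smul_eq_mul, inv_mul_cancel₀ hw₀e]
      let U : Submodule F P.M := (W ⊓ LinearMap.ker (B P.e)).map P.π
      have hU : TI P.BM U := by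
        rintro _ ⟨v, ⟨hv, hve⟩, rfl⟩ _ ⟨w, ⟨hw, hwe⟩, rfl⟩
        have := hW v hv w hw
        rwa [P.form', show B P.e v = 0 from hve, show B P.e w = 0 from hwe, mul_zero, zero_mul,
          add_zero, sub_zero] at this
      obtain ⟨u, hu, x, hx, hux⟩ := Submodule.mem_sup.mp
        (show P.π v₀ ∈ U ⊔ P.compl U by rw [(P.isCompl_compl U).sup_eq_top]; trivial)
      obtain ⟨w₁, ⟨hw₁, hw₁e⟩, hw₁u⟩ := Submodule.mem_map.mp hu
      set v := v₀ - w₁ with hv
      have hvW : v ∈ W := sub_mem hv₀W hw₁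
      have hve : B P.e v = 1 := by
        rw [hv, map_sub, hv₀e, show B P.e w₁ = 0 from hw₁e, sub_zero]
      have hvx : P.π v = x := by rw [hv, map_sub, hw₁u, ← hux, add_sub_cancel_left]
      have hlift : ∀ w ∈ W, B P.e w = 0 → w = (P.π w : V) + P.BM x (P.π w) • P.e := by
        intro w hw hwe
        have := hW v hvW w hw
        rw [P.form', hvx, ← P.BM_apply, hve, hwe, mul_zero, one_mul, add_zero, sub_eq_zero] at this
        rw [this]
        conv_lhs => rw [← P.decomp w, hwe, zero_smul, add_zero]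
      have hgv : P.g3 U x (B v P.f) (0, 1) = v := by
        rw [P.g3_apply]
        conv_rhs => rw [← P.decomp v, hvx, hve]
        simp
      have hrange : LinearMap.range (P.g3 U x (B v P.f)) = W := by
        refine le_antisymm ?_ fun w hw => ?_
        · rintro _ ⟨⟨⟨y, hy⟩, t⟩, rfl⟩
          obtain ⟨w, ⟨hw, hwe⟩, rfl⟩ := Submodule.mem_map.mp hy
          rw [show ((⟨P.π w, hy⟩, t) : U × F) = (⟨P.π w, hy⟩, 0) + t • (0, 1) by simp, map_add,
            map_smul, hgv]
          refine add_mem ?_ (W.smul_mem _ hvW)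
          rw [P.g3_apply]
          simp only [zero_smul, add_zero]
          rw [← hlift w hw hwe]
          exact hw
        · have h0 : w - B P.e w • v ∈ W ⊓ LinearMap.ker (B P.e) :=
            ⟨sub_mem hw (W.smul_mem _ hvW), by simp [hve]⟩
          refine ⟨(⟨P.π (w - B P.e w • v), Submodule.mem_map_of_mem h0⟩, 0) + B P.e w • (0, 1), ?_⟩
          rw [map_add, map_smul, hgv, P.g3_apply]
          simp only [zero_smul, add_zero]
          rw [← hlift _ h0.1 h0.2, sub_add_cancel]
      exact ⟨⟨⟨U, hU⟩, ⟨x, hx⟩, B v P.f⟩, Subtype.ext hrange⟩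
  rw [← hΦ.sum_comp (fun W => c (finrank F W.1)), Fintype.sum_sigma]
  refine Finset.sum_congr rfl fun U _ => ?_
  have hd : ∀ s : P.compl U.1 × F, c (finrank F (Φ ⟨U, s⟩).1) = c (finrank F U.1 + 1) := fun s => by
    rw [show finrank F (Φ ⟨U, s⟩).1 = finrank F U.1 + 1 from
      (LinearMap.finrank_range_of_inj (P.g3_injective U.1 _ _)).trans
        (by rw [Module.finrank_prod, Module.finrank_self])]
  rw [Finset.sum_congr rfl (fun s _ => hd s), Finset.sum_const, Finset.card_univ, nsmul_eq_mul]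
  congr 1
  have hf := Submodule.finrank_add_eq_of_isCompl (P.isCompl_compl U.1)
  rw [Fintype.card_prod, Fintype.card_eq_nat_card, Module.natCard_eq_pow_finrank (K := F),
    Nat.card_eq_fintype_card, ← pow_succ, Nat.cast_pow,
    show finrank F P.M - finrank F U.1 + 1 = finrank F (P.compl U.1) + 1 by omega]

end HPair

end Cfsg.Agent.Lib.SympUni
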